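import Mathlib.RingTheory.MvPolynomial.Homogeneous
import Mathlib.LinearAlgebra.Dual.Lemmas
import Mathlib.LinearAlgebra.Dimension.Free
import Mathlib.Algebra.Order.Antidiag.FinsuppEquiv
import Mathlib.LinearAlgebra.FiniteDimensional.Basic
import Mathlib.LinearAlgebra.LinearIndependent.Lemmas

/-! Forms on a projective space through finitely many points. -/

open MvPolynomial

namespace Groth.Agent.PlaneForms

universe u

variable {k : Type u} [Field k] {σ : Type} [Fintype σ]

/-- The linear form attached to a functional. -/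
noncomputable def lin [DecidableEq σ] (l : (σ → k) →ₗ[k] k) : MvPolynomial σ k :=
  ∑ i, C (l (Pi.single i 1)) * X i

theorem eval_lin [DecidableEq σ] (l : (σ → k) →ₗ[k] k) (v : σ → k) :
    MvPolynomial.aeval v (lin l) = l v := by
  conv_rhs => rw [pi_eq_sum_univ' v]
  simp [lin, map_sum, mul_comm, Pi.single_apply]

theorem isHomogeneous_lin [DecidableEq σ] (l : (σ → k) →ₗ[k] k) : (lin l).IsHomogeneous 1 :=
  IsHomogeneous.sum _ _ _ fun i _ => (isHomogeneous_C σ _).mul (isHomogeneous_X k i)

/-- A product of linear forms. -/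
theorem exists_form [DecidableEq σ] {ι : Type*} (s : Finset ι) (l : ι → (σ → k) →ₗ[k] k) :
    ∃ f : MvPolynomial σ k, f.IsHomogeneous s.card ∧
      ∀ v, MvPolynomial.aeval v f = ∏ i ∈ s, l i v := by
  refine ⟨∏ i ∈ s, lin (l i), ?_, fun v => by simp [map_prod, eval_lin]⟩
  have := IsHomogeneous.prod s (fun i => lin (l i)) (fun _ => 1) fun i _ => isHomogeneous_lin (l i)
  simpa using this

/-- A functional vanishing on `p` but not at `x`. -/
theorem exists_functional {p : Submodule k (σ → k)} {x : σ → k} (hx : x ∉ p) :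
    ∃ l : (σ → k) →ₗ[k] k, l x ≠ 0 ∧ ∀ y ∈ p, l y = 0 := by
  obtain ⟨l, hl, hp⟩ := p.exists_dual_map_eq_bot_of_notMem hx inferInstance
  exact ⟨l, hl, fun y hy => (Submodule.eq_bot_iff _).1 hp _ ⟨y, hy, rfl⟩⟩

theorem notMem_span_singleton {v w : σ → k} (h : LinearIndependent k ![v, w]) :
    v ∉ Submodule.span k {w} := by
  intro hv
  obtain ⟨c, hc⟩ := Submodule.mem_span_singleton.1 hv
  have := (LinearIndependent.pair_iff.1 h 1 (-c) (by rw [← hc]; module)).1
  exact one_ne_zero this

theorem finite_homogeneous_and_finrank [DecidableEq σ] (n : ℕ) :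
    Module.Finite k (homogeneousSubmodule σ k n) ∧
      Module.finrank k (homogeneousSubmodule σ k n) = (Fintype.card σ + n - 1).choose n := by
  classical
  have hset : {d : σ →₀ ℕ | d.degree = n} =
      (((Finset.univ : Finset σ).finsuppAntidiag n : Finset (σ →₀ ℕ)) : Set (σ →₀ ℕ)) := by
    ext d
    simp [Finset.mem_finsuppAntidiag, Finsupp.degree_eq_sum]
  rw [homogeneousSubmodule_eq_finsupp_supported, hset]
  let b : Module.Basis _ k
      (AddMonoidAlgebra.supported k k
        (((Finset.univ : Finset σ).finsuppAntidiag n : Finset (σ →₀ ℕ)) : Set (σ →₀ ℕ))) :=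
    Module.Basis.ofRepr (AddMonoidAlgebra.supportedEquivFinsupp _)
  refine ⟨Module.Finite.of_basis b, ?_⟩
  rw [Module.finrank_eq_card_basis b, ← Finset.card_univ (α := σ),
    ← Finset.card_finsuppAntidiag_nat_eq_choose]
  exact Fintype.card_coe _

end Groth.Agent.PlaneForms
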